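import Cfsg.Agent.MK.S1.Rows
import Cfsg.Agent.MK.S2.Cov
import Cfsg.Agent.MK.A.Cov
import Cfsg.Agent.H180.F43.Gal

/-!
# MK, the row of the triple cover of `M22` (helper44)
-/

set_option autoImplicit false
set_option maxRecDepth 100000

namespace Cfsg.Agent.MK.S1

open Cfsg Subgroup Cfsg.Agent.MK.T Cfsg.Agent.MK.S Cfsg.Agent.TAB Cfsg.Agent.TAB.Sm2 Cfsg.Agent.TAB.Use
open Cfsg.Agent.TAB.Eng Cfsg.Agent.H729.M22Deg
open Cfsg.Agent.SporadicA.GolayBase Cfsg.Agent.SporadicA.GolayPerm Cfsg.Agent.SporadicStructure.M24El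

/-- the table with rational types -/
theorem tab22 : ∃ T : TD Spor.M22 M22.dat, T.Mass ∧ ON.Rat T ∧ One T 8 ∧ ∀ r ∈ M22.rA ++ M22.rB, Virt T (nth r) := by
  have := fin22
  obtain ⟨T, hm, h1, h2, -, h4⟩ := exists_T (tp := fun i => M22.tpL.getD i 0) (bx := fun t => M22.bxL.getD t (0, 0))
    inc_injective M22.inv₁ M22.inv₂ (D := M22.dat) M22.card_eq (by decide +kernel) (by decide +kernel)
    (by decide +kernel) M22.reps M22.hT (by decide +kernel) (by decide +kernel) (by decide +kernel)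
  have h5 : ∀ i < 11, M22.dat.cnt (M22.tpL.getD i 0) * M22.nL.getD i 0 ≤ M22.dat.N → One T (M22.tpL.getD i 0) :=
    fun i hi h => by
      obtain ⟨x, -, h6, h7⟩ := h4 i hi ((by decide +kernel : ∀ i < 11, M22.tpL.getD i 0 < M22.dat.n) i hi)
      exact ⟨x, h6, (Nat.mul_le_mul_left _ h7).trans (hm.1 ▸ h)⟩
  refine ⟨T, hm, fun g h e => ?_, h5 8 (by decide) (by decide +kernel), virt_rows M22.card_eq (fun sd hs => ?_)
    (by decide +kernel) M22.hC⟩
  · have h6 := T.ord g
    have h7 := T.ord h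
    rw [← e] at h7
    rcases (by decide +kernel : ∀ t < M22.dat.n, M22.dat.ord t = 1 ∨ M22.dat.ord t = 7 ∨ M22.dat.ord t = 11 ∨
      ∃ i < 11, M22.tpL.getD i 0 = t ∧ M22.dat.cnt (M22.tpL.getD i 0) * M22.nL.getD i 0 ≤ M22.dat.N) _ (T.lt g) with
      h8 | h8 | h8 | ⟨i, hi, h8, h9⟩
    · rw [h8, orderOf_eq_one_iff] at h6 h7
      exact ⟨1, by rw [h6, h7, pow_one]⟩
    · exact (H180.F43.exists_isConj_pow (by decide) (by rw [card_M22]; decide) (h6.trans h8) (h7.trans h8)).imp
        fun _ h => h.2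
    · exact (H180.F43.exists_isConj_pow (by decide) (by rw [card_M22]; decide) (h6.trans h8) (h7.trans h8)).imp
        fun _ h => h.2
    · exact ⟨1, by rw [pow_one]; exact One.conj hm (h5 i hi h9) h8.symm (e.symm.trans h8.symm)⟩
  · simp only [List.mem_cons, List.not_mem_nil, or_false] at hs
    rcases hs with rfl | rfl
    · exact h1
    · exact h2

/-- the combinations of the rows which vanish at the elements of order divisible by three -/
def lat22 : List (List (ℤ × ℕ)) := [[(1, 3)], [(-1, 0), (1, 2), (-2, 3)], [(2, 0), (-3, 2), (3, 3), (1, 4)],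
  [(-3, 0), (3, 2), (-3, 3), (-1, 5), (-1, 6)],
  [(-16, 0), (-13, 1), (39, 2), (-44, 3), (-5, 4), (-7, 5), (-20, 6), (-9, 9)],
  [(-10, 0), (5, 1), (-21, 2), (-12, 3), (-33, 4), (-45, 5), (-40, 6), (-92, 7), (-60, 9)],
  [(23, 0), (-12, 1), (50, 2), (27, 3), (77, 4), (105, 5), (93, 6), (215, 7), (140, 9)],
  [(-1, 0), (1, 1), (-1, 2), (1, 3), (1, 6), (-1, 7), (1, 8)]]

theorem ok22 : S2.okS M22.dat 8 0 [2, 5, 7, 11] (M22.rA ++ M22.rB) lat22 [0, 7, 9, 5, 3, 4, 1] = true := by
  decide +kernel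

theorem m223 : SmC Spor.M22 := fun X _ _ φ hφ hk h3 hp _ => by
  have := fin22
  refine sm_of_kk φ hφ hk (by rw [h3]; decide) ?_ (CycN.of_selfN QTNorm.selfN_M22)
    ((m0_iff QTNorm.selfN_M22).2 (k0_22.trans a2_22.symm)) fun l m hl hm => ?_
  · have h1 : ok 971674527269832880431752993353340000 = true := by decide +kernel
    have h2 : ok 957071675614837213194803931558447680 = true := by decide +kernel
    have h4 : ok 1932239001265248850593219166472919 = true := by decide +kernel
    obtain ⟨β, hβ, h5⟩ := exists_out22 h4 (by decide +kernel)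
    obtain ⟨a, ha⟩ := exists_el h1 (by decide +kernel) (by decide +kernel)
    obtain ⟨b, hb⟩ := exists_el h2 (by decide +kernel) (by decide +kernel)
    have h6 : ∀ {x : Spor.M22} {P : ℕ}, ok P = true → inc x = el P → pcomp (pcomp P P) P = idP → x ^ 3 = 1 :=
      fun {x P} e1 e2 e3 => inc_injective (by
        rw [pow_three', map_mul, map_mul, e2, ← el_pcomp e1 e1, ← el_pcomp (ok_pcomp e1 e1) e1, e3, el_idP, map_one])
    have h7 : b ∉ zpowers a := fun h => by
      have h8 : zpowers a ≤ (MulAction.stabilizer M24 (pt 4)).comap inc := zpowers_le.2 (by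
        rw [mem_comap, MulAction.mem_stabilizer_iff, ha, el_smul_pt h1]
        decide +kernel)
      have h9 := h8 h
      rw [mem_comap, MulAction.mem_stabilizer_iff, hb, el_smul_pt h2] at h9
      exact absurd h9 (by decide +kernel)
    obtain ⟨x, y, c, rfl, rfl, hc, hc', h8⟩ := A.exists_comm φ hφ hk h3 hp (h6 h1 ha (by decide +kernel))
      (h6 h2 hb (by decide +kernel)) (inc_injective (by
        rw [map_mul, map_mul, ha, hb, ← el_pcomp h1 h2, ← el_pcomp h2 h1]
        exact congrArg el (by decide +kernel))) (fun e => by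
        have h9 := el_smul_pt h1 (pt 1)
        rw [← ha, e, map_one, one_smul] at h9
        exact absurd h9 (by decide +kernel)) h7 (by rw [card_M22]; decide)
    refine inn_of_inv φ hφ hk hp (out_cases S2062.result hβ) (i := 1) (j := 2) (inc_injective ?_) (inc_injective ?_)
      hc h8 fun e => hc' ?_
    · rw [h5, pow_one, ha, mul_inv_eq_iff_eq_mul, ← el_pcomp h4 h1, ← el_pcomp h1 h4]
      exact congrArg el (by decide +kernel)
    · rw [h5, pow_two, map_mul, hb, mul_inv_eq_iff_eq_mul, ← el_pcomp h4 h2, ← el_pcomp h2 h2,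
        ← el_pcomp (ok_pcomp h2 h2) h4]
      exact congrArg el (by decide +kernel)
    · rwa [one_mul, pow_two, mul_eq_left] at e
  · obtain ⟨T, h1, h2, h4, h5⟩ := tab22
    rw [k0_22]
    exact S2.kk_of_chk hφ hk h3 hp h1 h2 (inh_of_mass h1 (by decide +kernel)) (u := 8) (a := 2) h4 (by decide +kernel)
      (by decide +kernel) le_rfl h5 (by norm_num) ok22 hl hm

end Cfsg.Agent.MK.S1
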