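import Cfsg.Agent.MK.S1.Pc
import Cfsg.Agent.MK.S.Defs
import Cfsg.Agent.TAB.Sm2.M11
import Cfsg.Agent.TAB.Sm2.M12
import Cfsg.Agent.TAB.Sm2.M22
import Cfsg.Agent.TAB.Sm2.M23
import Cfsg.Agent.TAB.Sm2.M24
import Cfsg.Agent.S2060
import Cfsg.Agent.S2061
import Cfsg.Agent.S2062
import Cfsg.Agent.S2063
import Cfsg.Agent.S2064
import Cfsg.Agent.QTNorm.Main
import Cfsg.Agent.QTNorm.SporM12
import Cfsg.Agent.QTNorm.SporM22S
import Cfsg.Agent.QTNorm.SporJ4
import Cfsg.Agent.H868.SelfN23
import Cfsg.Agent.H916.RG.D12in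
import Cfsg.Agent.H882.Del.M11Grp
import Cfsg.Agent.Omega.TwoF.RowM12
import Cfsg.Agent.UGT.MTwentyThree.LB
import Cfsg.Agent.H399.Gen.RowM24
import Cfsg.Agent.H729.M24Deg

/-!
# MK, the rows of the Mathieu groups (helper44)

`m11`, `m12`, `m22`, `m23`, `m24`.
-/

set_option autoImplicit false
set_option maxRecDepth 100000
set_option synthInstance.maxSize 2000

namespace Cfsg.Agent.MK.S1

open Cfsg Subgroup Cfsg.Agent.MK.T Cfsg.Agent.MK.S Cfsg.Agent.TAB Cfsg.Agent.TAB.Sm2 Cfsg.Agent.TAB.Use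
open Cfsg.Agent.TAB.Eng
open Cfsg.Agent.SporadicA.GolayBase Cfsg.Agent.SporadicA.GolayPerm Cfsg.Agent.SporadicStructure.M24El
open scoped Pointwise

theorem fin24 : Finite M24 := Nat.finite_of_card_ne_zero (by rw [Sm2.M24.card_eq]; decide)

theorem center_of_simple {G : Type} [Group G] (h : IsSimpleGroup G) {n : ℕ} (hn : Nat.card G = n) (hp : ¬ n.Prime) :
    center G = ⊥ := by
  refine ((inferInstance : (center G).Normal).eq_bot_or_eq_top).resolve_right fun e => hp ?_
  have : Finite G := Nat.finite_of_card_ne_zero fun h0 => by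
    let _ : CommGroup G := Group.commGroupOfCenterEqTop e
    exact Nat.not_prime_zero (h0 ▸ IsSimpleGroup.prime_card)
  let _ : CommGroup G := Group.commGroupOfCenterEqTop e
  exact hn ▸ IsSimpleGroup.prime_card

/-- the value of a character on a row of norm one -/
theorem rel_row {G : Type} [Group G] {D : Dat} {T : TD G D} {A B : List (List ℤ)} {χ : ℕ → G → ℂ}
    (h : Rel T (mkRows A B) χ) {j : ℕ} (hj : j < A.length) (g : G) : χ j g = ((rw' A B j).getD (T.ty g) 0 : ℤ) := by
  have h1 := h ([(j, 1)], rw' A B j) (List.mem_append_left _ (List.mem_map.2 ⟨j, List.mem_range.2 hj, rfl⟩)) g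
  simpa using h1

/-- the sum of the two characters of a row of norm two -/
theorem rel_two {G : Type} [Group G] {D : Dat} {T : TD G D} {A B : List (List ℤ)} {χ : ℕ → G → ℂ}
    (h : Rel T (mkRows A B) χ) {j : ℕ} (hj : j < B.length) (g : G) :
    χ (A.length + 2 * j) g + χ (A.length + 2 * j + 1) g = ((rw' A B (A.length + j)).getD (T.ty g) 0 : ℤ) := by
  have h1 := h (_, rw' A B (A.length + j)) (List.mem_append_right _ (List.mem_map.2 ⟨j, List.mem_range.2 hj, rfl⟩)) g
  simpa using h1

/-! ### `M11`, `M23`, `M24` -/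

theorem m11 : SmS Spor.M11 := fun _ => by
  have := fin24
  have := Finite.of_injective _ M11.inc_inj
  refine sm_of_one (center_of_simple H882.Grp.simple11 M11.card_eq (by decide +kernel)) S2060.result
    ((m0_iff (QTNorm.selfN_m11 ⟨MulEquiv.refl _⟩)).2 ?_)
  rw [k0_of_degList M11.deg, a2_of_gl M11.inc M11.inc_inj k11 (k := 495) ?_ (by decide) M11.card_eq]
  · rfl
  · have h : ∀ P ∈ g11, ∀ S ∈ [340831, 1], pimg P S = S := by decide +kernel
    exact fun P hP ho => M11.hmem _ fun S hS => by rw [el_smul_fin ho, h P hP S hS]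

theorem fix22 : ∀ P ∈ g22, papp P 23 = 23 ∧ papp P 0 = 0 := by decide +kernel

theorem m23 : SmS Spor.M23 := fun _ => by
  have := fin24
  have := Finite.of_injective _ H334.Ore.M23.inc23_injective
  refine sm_of_one UGT.MTwentyThree.LB.center_bot S2063.result ((m0_iff H868.selfN_M23).2 ?_)
  rw [k0_of_degList M23.deg, a2_of_gl _ H334.Ore.M23.inc23_injective k22 (k := 79695) ?_ (by decide) M23.card_eq]
  · rfl
  · exact fun P hP ho => ⟨⟨el P, (el P).2, (el_smul_pt ho none).trans (congrArg pt (fix22 P hP).1)⟩, rfl⟩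

theorem m24 : SmS M24 := fun _ => by
  have := fin24
  refine sm_of_one H399.Gen.RowM24.center24 S2064.result ((m0_iff (QTNorm.selfN_m24 ⟨MulEquiv.refl _⟩)).2 ?_)
  rw [k0_of_degList Sm2.M24.deg, a2_of_gl (MonoidHom.id _) Function.injective_id k24 (k := 239085)
    (fun P _ _ => ⟨_, rfl⟩) (by decide) Sm2.M24.card_eq]
  rfl

/-! ### `M22` -/

section

open Cfsg.Agent.KFacts.MM.OutAut Cfsg.Agent.J4Type.Aut22 Cfsg.Agent.H729.M22Deg

theorem fin22 : Finite Spor.M22 := have := fin24; Finite.of_injective _ inc_injective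

theorem center22 : center Spor.M22 = ⊥ :=
  center_of_simple SporadicA.MathieuRecog.simple_M22 card_M22 (by decide +kernel)

theorem a2_22 : a2 Spor.M22 = 8 := by
  have := fin24
  exact a2_of_gl inc inc_injective k22 (k := 3465) (fun P hP ho => exists_el ho (fix22 P hP).1 (fix22 P hP).2)
    (by decide) card_M22

theorem k0_22 : k0 Spor.M22 = 8 := k0_of_degList M22.deg

theorem mem22 {P : ℕ} (ho : ok P = true) (h : (papp P 23 = 23 ∧ papp P 0 = 0) ∨ (papp P 23 = 0 ∧ papp P 0 = 23)) :
    (el P : Equiv.Perm GolayPt) ∈ D22 :=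
  (mem_D22_iff _).2 ⟨(el P).2, h.imp
    (fun h => ⟨(el_smul_pt ho none).trans (congrArg pt h.1), (el_smul_pt ho (some 0)).trans (congrArg pt h.2)⟩)
    fun h => ⟨(el_smul_pt ho none).trans (congrArg pt h.1), (el_smul_pt ho (some 0)).trans (congrArg pt h.2)⟩⟩

theorem a2_aut22 : a2 (MulAut Spor.M22) = 16 := by
  have := fin24
  have := fin22
  refine a2_of_gl (emb.codRestrict M24 fun α => ((mem_D22_iff _).1 (ind_mem α)).1)
    (fun a b h => emb_inj (congrArg Subtype.val h)) k22a (k := 3465) (fun P hP ho => ?_) (by decide) ?_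
  · have h : ∀ P ∈ g22a, (papp P 23 = 23 ∧ papp P 0 = 0) ∨ (papp P 23 = 0 ∧ papp P 0 = 23) := by decide +kernel
    obtain ⟨α, hα⟩ := emb_range.ge (mem22 ho (h P hP))
    exact ⟨α, Subtype.ext hα⟩
  · rw [card_aut center22 S2062.result, card_M22]
    rfl

/-- the automorphism induced by an element which interchanges the two points -/
theorem exists_out22 {a : ℕ} (ho : ok a = true) (h : papp a 23 = 0 ∧ papp a 0 = 23) : ∃ α : MulAut Spor.M22,
    α ∉ (MulAut.conj : Spor.M22 →* MulAut Spor.M22).range ∧ ∀ x, inc (α x) = el a * inc x * (el a)⁻¹ := by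
  refine ⟨autOf _ (mem22 ho (Or.inr h)), ?_, fun x => rfl⟩
  rintro ⟨m, hm⟩
  have h1 : emb (autOf _ (mem22 ho (Or.inr h))) = el a := ind_eq (mem22 ho (Or.inr h)) fun m => rfl
  rw [← hm, emb_conj] at h1
  have h2 : (m : Equiv.Perm GolayPt) none = none := m.2.1.2
  have h3 := (el_smul_pt ho none).trans (congrArg pt h.1)
  rw [coe_smul_pt, ← h1, h2] at h3
  exact absurd h3 (by decide)

theorem f0_22 : ∃ α ∉ (MulAut.conj : Spor.M22 →* MulAut Spor.M22).range, f0 α = 8 := by
  have := fin22
  have h1 : ok 24845578109244385367080640692979767 = true := by decide +kernel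
  have h2 : ok (M22.cf 6) = true := by decide +kernel
  obtain ⟨α, hα, h3⟩ := exists_out22 h1 (by decide +kernel)
  obtain ⟨x, hx⟩ := exists_el h2 (by decide +kernel) (by decide +kernel)
  have h4 : α x = x := inc_injective (by
    rw [h3, hx, mul_inv_eq_iff_eq_mul, ← el_pcomp h1 h2, ← el_pcomp h2 h1]
    exact congrArg el (by decide +kernel))
  obtain ⟨T, -, ⟨χ, hE, hR⟩, -⟩ := M22.tab
  have h5 : T.ty x = 7 := by
    have h6 := T.ord x
    rw [← orderOf_injective inc inc_injective, hx,
      H729.M24Deg.orderOf_el (p := 7) (by decide) h2 (by decide +kernel) 2 (by decide) (by decide +kernel)] at h6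
    exact (by decide +kernel : ∀ t < M22.dat.n, 7 = M22.dat.ord t → t = 7) _ (T.lt x) h6
  have h6 : χ 8 x + χ 9 x = (-1 : ℤ) := by
    have h7 := rel_two hR (j := 0) (by decide) x
    rwa [h5] at h7
  have h7 : χ 8 x ≠ χ 9 x := fun e => by
    rw [← e] at h6
    exact absurd (even_of_integral (Characters.GaloisBasic.isIntegral_apply
      (Characters.Core.isIrr_isCharacter (hE.irr 8 (by decide +kernel))) x) h6) (by decide)
  refine ⟨α, hα, (f0_eq_of_all fun ψ hψ z => ?_).trans k0_22⟩
  obtain ⟨j, hj, rfl⟩ := hE.all ψ hψ.1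
  obtain ⟨i, hi, h8, h9⟩ := enum_perm hE α hj
  have h10 := hψ.2
  rw [ODD.Red.charDegree_of (hE.deg j hj)] at h10
  rcases (by decide +kernel : ∀ j < (mkRows M22.rA M22.rB).n, ∀ i < (mkRows M22.rA M22.rB).n,
    (mkRows M22.rA M22.rB).d i = (mkRows M22.rA M22.rB).d j ∧ (mkRows M22.rA M22.rB).d j % 2 = 1 →
      i = j ∨ (i = 8 ∧ j = 9) ∨ (i = 9 ∧ j = 8)) j hj i hi ⟨h8, Nat.odd_iff.1 h10⟩ with rfl | ⟨rfl, rfl⟩ | ⟨rfl, rfl⟩
  · exact h9 z
  · exact absurd ((h9 x).symm.trans (congrArg _ h4)) h7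
  · exact absurd ((congrArg _ h4).symm.trans (h9 x)) h7

theorem m22 : SmS Spor.M22 := fun _ => by
  have := fin22
  obtain ⟨α, h1, h2⟩ := f0_22
  exact sm_of_self center22 S2062.result QTNorm.selfN_M22 (k0_22.trans a2_22.symm) h1 (by rw [h2, a2_aut22])

end

/-! ### `M12` -/

theorem hcen12 (τ : M24) (h : ∀ g : Spor.M12, τ * M12.inc g = M12.inc g * τ) : τ = 1 := by
  have h1 : ∀ c, ok c = true → pimg c 340831 = 340831 → τ * el c = el c * τ := fun c hc hc' => by
    obtain ⟨x, hx⟩ := M12.hmem (el c) fun S hS => by rw [List.mem_singleton.1 hS, el_smul_fin hc, hc']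
    exact hx ▸ h x
  exact H916.RG.Eng.cen_of_search (p := 11) (c := H916.RG.D12.cen.c) (wd := H916.RG.D12.cen.wd)
    (sts := H916.RG.D12.cen.sts) (d := H916.RG.D12.cd) (by decide +kernel) (by decide +kernel) (by decide +kernel)
    (by decide +kernel) τ (h1 _ (by decide +kernel) (by decide +kernel)) (h1 _ (by decide +kernel) (by decide +kernel))

theorem mem_range12 (g : M24) : g ∈ M12.inc.range ↔ g • fin 340831 = fin 340831 :=
  ⟨by rintro ⟨x, rfl⟩; exact M12.fixS x, fun h => M12.hmem g fun S hS => by rwa [List.mem_singleton.1 hS]⟩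

theorem norm12 [Finite M24] {P : ℕ} (ho : ok P = true) (h : pimg P 340831 = 340831 ∨ pimg P 16436384 = 340831) :
    el P ∈ normalizer (M12.inc.range : Set M24) := by
  rcases h with h | h
  · exact le_normalizer ((mem_range12 _).2 (by rw [el_smul_fin ho, h]))
  · refine mem_normalizer_fintype fun g hg => (mem_range12 _).2 ?_
    have h1 : fin 16436384 = (fin 340831)ᶜ := by decide +kernel
    have h2 : el P • fin 16436384 = fin 340831 := by rw [el_smul_fin ho, h]
    have h3 : g • fin 16436384 = fin 16436384 := by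
      ext p
      rw [← Finset.inv_smul_mem_iff, h1, Finset.mem_compl, Finset.mem_compl, Finset.inv_smul_mem_iff,
        (mem_range12 g).1 hg]
    rw [mul_smul, mul_smul, inv_smul_eq_iff.2 h2.symm, h3, h2]

theorem m12 : SmS Spor.M12 := fun _ => by
  have := fin24
  have := Finite.of_injective _ M12.inc_inj
  obtain ⟨ρ, hρ, hρ'⟩ := exists_act M12.inc M12.inc_inj hcen12
  have h1 : ok 688112451171162069113470035094621941 = true := by decide +kernel
  let α := ρ ⟨_, norm12 h1 (by decide +kernel)⟩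
  obtain ⟨T, hm, h2, h3, h4, h5⟩ := exists_T (tp := fun i => M12.tpL.getD i 0) (bx := fun t => M12.bxL.getD t (0, 0))
    M12.inc_inj M12.inv₁ M12.inv₂ (D := M12.dat) M12.card_eq (by decide +kernel) (by decide +kernel)
    (by decide +kernel) M12.reps M12.hT (by decide +kernel) (by decide +kernel) (by decide +kernel)
  obtain ⟨χ, hE, hR⟩ : Tab T (mkRows M12.rA M12.rB) := tab_of_rows hm h4 (virt_rows M12.card_eq (fun sd hs => by
    simp only [List.mem_cons, List.not_mem_nil, or_false] at hs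
    rcases hs with rfl | rfl
    · exact h2
    · exact h3) (by decide +kernel) M12.hC) (by decide +kernel)
  obtain ⟨x, hx, hx', -⟩ := h5 4 (by decide) (by decide +kernel)
  obtain ⟨y, hy, hy', -⟩ := h5 5 (by decide) (by decide +kernel)
  replace hx' : T.ty x = 5 := hx'
  replace hy' : T.ty y = 6 := hy'
  have h6 : α x = y := M12.inc_inj (by
    have h7 : ok (M12.cf 4) = true := by decide +kernel
    have h8 : ok (M12.cf 5) = true := by decide +kernel
    rw [hρ', hx, hy, mul_inv_eq_iff_eq_mul, ← el_pcomp h1 h7, ← el_pcomp h8 h1]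
    exact congrArg el (by decide +kernel))
  have mv : ∀ j < M12.rA.length, (rw' M12.rA M12.rB j).getD 6 0 ≠ (rw' M12.rA M12.rB j).getD 5 0 →
      ¬ ∀ z, χ j (α z) = χ j z := fun j hj h7 h8 => by
    have h9 := h8 x
    rw [h6, rel_row hR hj, rel_row hR hj, hx', hy'] at h9
    exact h7 (Int.cast_injective h9)
  have hα : α ∉ (MulAut.conj : Spor.M12 →* MulAut Spor.M12).range := by
    rintro ⟨m, e⟩
    exact mv 1 (by decide) (by decide) fun z =>
      e ▸ Characters.Core.isIrr_isClassFunction (hE.irr 1 (by decide +kernel)) z m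
  refine sm_of_self Omega.TwoF.RowM12.center_eq S2061.result (QTNorm.selfN_m12 ⟨MulEquiv.refl _⟩) ?_ hα ?_
  · rw [k0_of_degList M12.deg, a2_of_gl M12.inc M12.inc_inj k12 (k := 1485) ?_ (by decide) M12.card_eq]
    · rfl
    · have h : ∀ P ∈ g12, pimg P 340831 = 340831 := by decide +kernel
      exact fun P hP ho => (mem_range12 _).2 (by rw [el_smul_fin ho, h P hP])
  · have h : ∀ P ∈ g12a, pimg P 340831 = 340831 ∨ pimg P 16436384 = 340831 := by decide +kernel
    rw [a2_aut_of_gl ρ hρ k12a (k := 1485) (fun P hP ho => norm12 ho (h P hP)) (by decide)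
      (by rw [card_aut Omega.TwoF.RowM12.center_eq S2061.result, M12.card_eq]; rfl),
      f0_enum hE (q := fun j => decide (j ∉ [1, 2, 5, 6])) fun j hj ho => ?_]
    · decide +kernel
    · rw [decide_eq_true_iff]
      refine ⟨fun h7 h8 => ?_, fun h7 z => ?_⟩
      · simp only [List.mem_cons, List.not_mem_nil, or_false] at h8
        rcases h8 with rfl | rfl | rfl | rfl <;> exact mv _ (by decide) (by decide) h7
      · obtain ⟨i, hi, h8, h9⟩ := enum_perm hE α hj
        rcases (by decide +kernel : ∀ j < (mkRows M12.rA M12.rB).n, ∀ i < (mkRows M12.rA M12.rB).n,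
          (mkRows M12.rA M12.rB).d i = (mkRows M12.rA M12.rB).d j ∧ (mkRows M12.rA M12.rB).d j % 2 = 1 →
            100 * j + i ∈ [705, 706] ∨ i = j ∨ j ∈ [1, 2, 5, 6]) j hj i hi ⟨h8, Nat.odd_iff.1 ho⟩ with h10 | rfl | h10
        rotate_left
        · exact h9 z
        · exact absurd h10 h7
        · have h11 := h9 (x ^ 2)
          have h12 : T.ty (x ^ 2) = 2 := by rw [T.pow, hx']; decide +kernel
          have h13 : T.ty (y ^ 2) = 2 := by rw [T.pow, hy']; decide +kernel
          have h14 : (mkRows M12.rA M12.rB).n = 15 := by decide +kernel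
          simp only [List.mem_cons, List.not_mem_nil, or_false] at h10
          rcases (by omega : (j = 7 ∧ i = 5) ∨ (j = 7 ∧ i = 6)) with ⟨rfl, rfl⟩ | ⟨rfl, rfl⟩ <;>
            rw [map_pow, h6, rel_row hR (by decide), h13, rel_row hR (by decide), h12] at h11 <;>
            exact absurd (Int.cast_injective h11) (by decide)

end Cfsg.Agent.MK.S1
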