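import Cfsg.Agent.MK.S5.Alt
import Cfsg.Agent.MK.T.B
import Cfsg.Agent.SporadicStructure.M24El

/-!
# MK, the Mathieu groups: polycyclic certificates in `M24` (helper44)

* `a2_of_gl` : `a2` from a certificate on packed elements of `M24`;
* `exists_act` : the action of the normaliser on a subgroup with trivial centraliser; `a2_aut_of_gl`;
* the certificates for the Sylow `2`-subgroups of `M11`, `M12`, `M12.2`, `M22`, `M22.2`, `M24`.
-/

set_option autoImplicit false
set_option maxRecDepth 100000

namespace Cfsg.Agent.MK.S1

open Cfsg Subgroup Cfsg.Agent.MK.T Cfsg.Agent.MK.S.Pc Cfsg.Agent.MK.S5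
open Cfsg.Agent.SporadicA.GolayBase Cfsg.Agent.SporadicA.GolayPerm Cfsg.Agent.SporadicStructure.M24El

/-- the letters -/
noncomputable def yy (gl : List ℕ) (i : ℕ) : M24 := el (gl.getD i idP)

/-- the test of the equality of two words -/
def eqW (gl : List ℕ) (v w : List ℕ) : Bool := Nat.beq (prodW gl v) (prodW gl w)

/-- the image of a point -/
def apW (gl : List ℕ) (w : List ℕ) (p : ℕ) : ℕ := w.foldr (fun i q => papp (gl.getD i idP) q) p

/-- the key -/
def ky (f : ℕ → ℕ) : ℕ := (f 1 + 32 * (f 2 + 32 * (f 3 + 32 * (f 4 + 32 * (f 5 + 32 * (f 6 + 32 * f 7)))))) % 56899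

/-- no repetitions -/
def nd (l : List ℕ) : ℕ → Bool :=
  l.foldr (fun a r s => !(s.testBit a) && r (s ||| (1 <<< a))) fun _ => true

theorem nd_spec : ∀ (l : List ℕ) (s : ℕ), nd l s = true → l.Nodup ∧ ∀ a ∈ l, s.testBit a = false
  | [], _, _ => ⟨List.nodup_nil, fun _ h => absurd h List.not_mem_nil⟩
  | a :: l, s, h => by
    change (!(s.testBit a) && nd l (s ||| (1 <<< a))) = true at h
    rw [Bool.and_eq_true, Bool.not_eq_true'] at h
    obtain ⟨h1, h2⟩ := nd_spec l _ h.2
    simp only [Nat.testBit_or, Bool.or_eq_false_iff, Nat.one_shiftLeft, Nat.testBit_two_pow,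
      decide_eq_false_iff_not] at h2
    refine ⟨List.nodup_cons.2 ⟨fun ha => (h2 a ha).2 rfl, h1⟩, fun b hb => ?_⟩
    rcases List.mem_cons.1 hb with rfl | hb
    · exact h.1
    · exact (h2 b hb).1

/-- the whole check -/
def chkA (gl : List ℕ) (c : Cert) (n m : ℕ) : Bool :=
  gl.all ok && Nat.ble m n && (List.range n).all (chk1 (eqW gl) n m c) &&
    nd ((List.range n).sublists.map fun w => ky (apW gl (c.ex w))) 0

theorem ev_yy {gl : List ℕ} (h : ∀ P ∈ gl, ok P = true) (w : List ℕ) : ev (yy gl) w = el (prodW gl w) :=
  (el_prodW h w).symm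

theorem idx_ev {gl : List ℕ} (h : ∀ P ∈ gl, ok P = true) {p : ℕ} (hp : p < 24) :
    ∀ w, idx (ev (yy gl) w • pt p) = apW gl w p
  | [] => by rw [ev_nil, one_smul, idx_pt hp]; rfl
  | i :: w => by rw [ev_cons, mul_smul, yy, idx_el_smul (ok_getD h i), idx_ev h hp w]; rfl

theorem pc_of_chkA [Finite M24] {gl : List ℕ} {c : Cert} {n m : ℕ} (h : chkA gl c n m = true) :
    (∀ P ∈ gl, ok P = true) ∧ PC (c.el (yy gl)) n m ∧ 2 ^ n ≤ Nat.card (V (c.el (yy gl)) n 0) := by
  simp only [chkA, Bool.and_eq_true, List.all_eq_true, Nat.ble_eq, List.mem_range] at h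
  obtain ⟨⟨⟨h1, h2⟩, h3⟩, h4⟩ := h
  refine ⟨h1, pc_of_chk (fun v w e => ?_) h2 h3, le_card_of_key (fun g : M24 => ky fun p => idx (g • pt p)) ?_⟩
  · rw [ev_yy h1, ev_yy h1, Nat.eq_of_beq_eq_true e]
  · rw [List.map_congr_left (g := fun w => ky (apW gl (c.ex w))) fun w _ => by
      simp (disch := norm_num) only [← c.ev_ex, ky, idx_ev h1]]
    exact (nd_spec _ _ h4).1

theorem el_mem {gl : List ℕ} {K : Subgroup M24} (h : ∀ P ∈ gl, el P ∈ K) (c : Cert) (i : ℕ) : c.el (yy gl) i ∈ K := by
  refine ev_mem fun j _ => ?_
  rw [yy]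
  by_cases hj : j < gl.length
  · rw [List.getD_eq_getElem _ _ hj]
    exact h _ (List.getElem_mem hj)
  · rw [List.getD_eq_default _ _ (by omega), el_idP]
    exact one_mem _

variable {X : Type} [Group X]

/-- **`a2` from a certificate** -/
theorem a2_of_gl [Finite M24] (f : X →* M24) (hf : Function.Injective f) {gl : List ℕ} {c : Cert} {n m k : ℕ}
    (h : chkA gl c n m = true) (hr : ∀ P ∈ gl, ok P = true → el P ∈ f.range) (hk : Odd k)
    (hX : Nat.card X = 2 ^ n * k) : a2 X = 2 ^ m := by
  obtain ⟨h1, h2, h3⟩ := pc_of_chkA h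
  exact a2_of_pc f hf h2 h3 (fun i _ => el_mem (fun P hP => hr P hP (h1 P hP)) c i) hk hX

/-- the action of the normaliser -/
theorem exists_act {Γ : Type} [Group Γ] (f : X →* Γ) (hf : Function.Injective f)
    (hC : ∀ τ : Γ, (∀ x, τ * f x = f x * τ) → τ = 1) :
    ∃ ρ : normalizer (f.range : Set Γ) →* MulAut X, Function.Injective ρ ∧
      ∀ a x, f (ρ a x) = a * f x * (a : Γ)⁻¹ := by
  let e := MonoidHom.ofInjective hf
  let ρ : normalizer (f.range : Set Γ) →* MulAut X :=
    (MulAut.congr e).symm.toMonoidHom.comp f.range.normalizerMonoidHom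
  have h1 : ∀ a x, f (ρ a x) = a * f x * (a : Γ)⁻¹ := fun a x =>
    congrArg Subtype.val (e.apply_symm_apply (f.range.normalizerMonoidHom a (e x)))
  refine ⟨ρ, (injective_iff_map_eq_one ρ).2 fun a ha => Subtype.ext (hC _ fun x => ?_), h1⟩
  have h2 := h1 a x
  rw [ha, MulAut.one_apply] at h2
  exact mul_inv_eq_iff_eq_mul.1 h2.symm

/-- `a2` of the automorphism group -/
theorem a2_aut_of_gl [Finite M24] [Finite X] {K : Subgroup M24} (ρ : K →* MulAut X) (hρ : Function.Injective ρ)
    {gl : List ℕ} {c : Cert} {n m k : ℕ} (h : chkA gl c n m = true) (hr : ∀ P ∈ gl, ok P = true → el P ∈ K)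
    (hk : Odd k) (hX : Nat.card (MulAut X) = 2 ^ n * k) : a2 (MulAut X) = 2 ^ m := by
  obtain ⟨h1, h2, h3⟩ := pc_of_chkA h
  have h4 : V (c.el (yy gl)) n 0 ≤ K := V_le fun i _ _ => el_mem (fun P hP => hr P hP (h1 P hP)) c i
  have e := (subgroupOfEquivOfLe h4).symm.trans (((V (c.el (yy gl)) n 0).subgroupOf K).equivMapOfInjective ρ hρ)
  rw [a2_of_sub (MonoidHom.id _) Function.injective_id (((V (c.el (yy gl)) n 0).subgroupOf K).map ρ)
    (fun x _ => ⟨x, rfl⟩) (by rw [← Nat.card_congr e.toEquiv]; exact h2.card_eq h3 (Nat.zero_le n)) hk hX,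
    ← ab_congr e]
  exact h2.index h3

/-! ### the certificates -/

def g11 : List ℕ := [811721624755378088562767127816440224, 980337198607347817318270043156498688,
    712951677269790460590282110239410688, 608378702909085637188885195315873920]

def c11 : Cert where
  gw := [[0], [1], [2], [3]]
  sq := [[3], [], [3], []]
  cm := [[[], [2, 3], [3], []], [[], [], [3], []], [[], [], [], []], [[], [], [], []]]
  dv := [([], [], []), ([], [], []), ([1], [0], []), ([2, 3], [1], [])]

def g12 : List ℕ := [853260336314920060347952024579623328, 732426474961190380979792325949950089,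
    934189694589388557992048848258859442, 981656149524935688967641396208060553,
    630442815542927499648711288170957321, 608378702909085637188885195315873920]

def c12 : Cert where
  gw := [[0], [1], [2], [3], [4], [5]]
  sq := [[3, 4], [], [4], [], [5], []]
  cm := [[[], [3, 4], [3], [5], [5], []], [[], [], [4, 5], [], [5], []], [[], [], [], [5], [], []], [[], [], [], [],
    [], []], [[], [], [], [], [], []], [[], [], [], [], [], []]]
  dv := [([], [], []), ([], [], []), ([], [], []), ([2], [0], []), ([2], [1], []), ([3, 4], [2], [])]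

def g12a : List ℕ := [227591120086334186348394142531848384, 541667432147000678380462379081706133,
    340193184607674300264305001246141941, 981778396026519415205126423097779250,
    731269206504371524970487553510811154, 610404943368018725578444844873173033,
    608378702909085637188885195315873920]

def c12a : Cert where
  gw := [[0], [1], [2], [3], [4], [5], [6]]
  sq := [[6], [5, 6], [3, 5, 6], [], [], [], []]
  cm := [[[], [4, 5], [3], [], [6], [6], []], [[], [], [4], [5, 6], [6], [], []], [[], [], [], [6], [5, 6], [6],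
    []], [[], [], [], [], [6], [], []], [[], [], [], [], [], [], []], [[], [], [], [], [], [], []], [[], [], [], [],
    [], [], []]]
  dv := [([], [], []), ([], [], []), ([], [], []), ([2], [0], []), ([2], [1], []), ([2], [2, 3, 4, 5, 6], []), ([2],
    [2, 3], [])]

def g22 : List ℕ := [964563684864323421128298207006538144, 964635896421529405006781235388004768,
    958269799639027155104535205206153632, 963746088592452898125099198249967648,
    968654393269144319313595763455101984, 960796265644511697179202340874633248,
    958359841193275559058527489894996000]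

def c22 : Cert where
  gw := [[0], [1], [2], [3], [4], [5], [6]]
  sq := [[3], [4, 5, 6], [], [], [6], [], []]
  cm := [[[], [3, 4, 5], [3], [], [5, 6], [6], []], [[], [], [4, 6], [5], [6], [6], []], [[], [], [], [], [6], [6],
    []], [[], [], [], [], [6], [], []], [[], [], [], [], [], [], []], [[], [], [], [], [], [], []], [[], [], [], [],
    [], [], []]]
  dv := [([], [], []), ([], [], []), ([], [], []), ([2], [0], []), ([2], [1], []), ([1], [3, 4, 5], []), ([2], [2,
    4], [])]

def g22a : List ℕ := [9257121929923376993842421068642359, 964563684864323421128298207006538144,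
    962776253026012558420267956671491104, 958269799639027155104535205206153632,
    963746088592452898125099198249967648, 968654393269144319313595763455101984,
    960796265644511697179202340874633248, 958359841193275559058527489894996000]

def c22a : Cert where
  gw := [[0], [1], [2], [3], [4], [5], [6], [7]]
  sq := [[4, 6], [4], [6], [], [], [7], [], []]
  cm := [[[], [6], [5], [4], [7], [6], [7], []], [[], [], [5, 6, 7], [4], [], [6, 7], [7], []], [[], [], [], [5, 7],
    [6, 7], [], [], []], [[], [], [], [], [], [7], [7], []], [[], [], [], [], [], [7], [], []], [[], [], [], [], [],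
    [], [], []], [[], [], [], [], [], [], [], []], [[], [], [], [], [], [], [], []]]
  dv := [([], [], []), ([], [], []), ([], [], []), ([], [], []), ([3], [1], []), ([3], [2], []), ([2], [0, 1, 4, 6,
    7], []), ([3], [3, 5], [])]

def g24 : List ℕ := [964635896421529405006781235388004768, 635184250539178882295438984835487313,
    542893535619217176762714596726627041, 50188330457140793041819887600345101, 3060884162497229114428174945606071,
    8611926139677110162895897192702391, 47111659653496936130671333083464429, 28938665076611168234571049512044983,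
    20990495820449057649477933877891511, 958359841193275559058527489894996000]

def c24 : Cert where
  gw := [[0], [1], [2], [3], [4], [5], [6], [7], [8], [9]]
  sq := [[5, 7, 9], [4, 5, 6, 9], [7], [4, 7, 8], [], [9], [], [], [], []]
  cm := [[[], [4, 6, 7], [5, 7, 8], [4, 5, 7, 9], [7, 8], [9], [8], [9], [], []], [[], [], [5, 8, 9], [5, 6, 7, 9],
    [8], [7], [7, 8], [9], [9], []], [[], [], [], [4, 7, 9], [], [9], [7, 9], [], [9], []], [[], [], [], [], [9],
    [7, 8], [7, 9], [], [9], []], [[], [], [], [], [], [9], [], [], [], []], [[], [], [], [], [], [], [], [], [],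
    []], [[], [], [], [], [], [], [], [], [], []], [[], [], [], [], [], [], [], [], [], []], [[], [], [], [], [],
    [], [], [], [], []], [[], [], [], [], [], [], [], [], [], []]]
  dv := [([], [], []), ([], [], []), ([], [], []), ([], [], []), ([3], [2, 3, 4, 6, 7, 8], []), ([3], [0, 2, 5],
    []), ([3], [0, 1, 2, 4, 5, 6, 8], []), ([3], [4, 6, 7, 9], []), ([3], [4, 5, 6, 7], []), ([3], [3, 8], [])]

theorem k11 : chkA g11 c11 4 2 = true := by decide +kernel

theorem k12 : chkA g12 c12 6 3 = true := by decide +kernel

theorem k12a : chkA g12a c12a 7 3 = true := by decide +kernel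

theorem k22 : chkA g22 c22 7 3 = true := by decide +kernel

theorem k22a : chkA g22a c22a 8 4 = true := by decide +kernel

theorem k24 : chkA g24 c24 10 4 = true := by decide +kernel

end Cfsg.Agent.MK.S1
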